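import Mathlib

/-!
Witt extension theorems, valid over any field and in any characteristic:

* `witt_alternating` : non-degenerate alternating forms;
* `witt_quadratic` : quadratic forms with non-degenerate polar form;
* `witt_hermitian` : non-degenerate hermitian forms.

In each case a partial isometry is given by a subspace `X` and a linear map `f : V →ₗ[F] V` that is
injective and form-preserving on `X`; the conclusion is an isometry of `V` agreeing with `f` on `X`.
-/

set_option autoImplicit false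

namespace CfsgLib.Forms

variable {F V : Type*} [Field F] [AddCommGroup V] [Module F V]

/-- Linear map `x ↦ x + l x • a + k x • b`. -/
def shiftMap (l : V →ₗ[F] F) (a : V) (k : V →ₗ[F] F) (b : V) : V →ₗ[F] V :=
  LinearMap.id + l.smulRight a + k.smulRight b

@[simp] theorem shiftMap_apply (l : V →ₗ[F] F) (a : V) (k : V →ₗ[F] F) (b x : V) :
    shiftMap l a k b x = x + l x • a + k x • b := by
  simp [shiftMap]

/-- A linear functional killing `U` and equal to `c` on `x ∉ U`. -/
theorem exists_dual_eq (U : Submodule F V) {x : V} (hx : x ∉ U) (c : F) :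
    ∃ l : V →ₗ[F] F, (∀ y ∈ U, l y = 0) ∧ l x = c := by
  obtain ⟨l, hl, hU⟩ := Submodule.exists_dual_map_eq_bot_of_notMem hx inferInstance
  have h0 : ∀ y ∈ U, l y = 0 := fun y hy => by
    have hy' : l y ∈ U.map l := Submodule.mem_map_of_mem hy
    rwa [hU, Submodule.mem_bot] at hy'
  refine ⟨(c / l x) • l, fun y hy => by simp [h0 y hy], ?_⟩
  simp [div_mul_cancel₀ c hl]

/-- The inductive skeleton of Witt's extension theorem. -/
theorem extend_by_steps [FiniteDimensional F V] (P : (V ≃ₗ[F] V) → Prop)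
    (R : Submodule F V → (V →ₗ[F] V) → Prop)
    (Pone : P (LinearEquiv.refl F V)) (Ptrans : ∀ g h, P g → P h → P (g.trans h))
    (Rmono : ∀ X X' f, X ≤ X' → R X' f → R X f)
    (Rcomp : ∀ X f (g : V ≃ₗ[F] V), P g → R X f → R X (g.symm.toLinearMap ∘ₗ f))
    (step : ∀ (H : Submodule F V) (u : V) (f : V →ₗ[F] V), u ∉ H → f u ∉ H →
      R (H ⊔ (F ∙ u)) f → (∀ h ∈ H, f h = h) →
      ∃ g, P g ∧ (∀ h ∈ H, g h = h) ∧ g u = f u)
    (X : Submodule F V) (f : V →ₗ[F] V) (hR : R X f) (hinj : ∀ x ∈ X, f x = 0 → x = 0) :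
    ∃ g : V ≃ₗ[F] V, P g ∧ ∀ x ∈ X, g x = f x := by
  classical
  obtain ⟨s, rfl⟩ : X.FG := IsNoetherian.noetherian X
  induction s using Finset.induction_on generalizing f with
  | empty =>
    refine ⟨LinearEquiv.refl F V, Pone, fun x hx => ?_⟩
    simp at hx
    simp [hx]
  | insert u s _ IH =>
    have hle : Submodule.span F (s : Set V) ≤ Submodule.span F (↑(insert u s) : Set V) :=
      Submodule.span_mono (by simp)
    obtain ⟨g₀, hg₀, hg₀f⟩ := IH f (Rmono _ _ f hle hR) fun x hx h => hinj x (hle hx) h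
    by_cases hu : u ∈ Submodule.span F (s : Set V)
    · refine ⟨g₀, hg₀, fun x hx => hg₀f x ?_⟩
      rwa [Finset.coe_insert, Submodule.span_insert_eq_span hu] at hx
    have hspan : Submodule.span F (↑(insert u s) : Set V)
        = Submodule.span F (s : Set V) ⊔ (F ∙ u) := by
      rw [Finset.coe_insert, Submodule.span_insert, sup_comm]
    rw [hspan] at hR hinj ⊢
    set f' : V →ₗ[F] V := g₀.symm.toLinearMap ∘ₗ f with hf'
    have hfix : ∀ h ∈ Submodule.span F (s : Set V), f' h = h := fun h hh => by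
      simp [hf', ← hg₀f h hh]
    have hfu : f' u ∉ Submodule.span F (s : Set V) := by
      intro hmem
      have h1 : f (f' u) = f u := by
        rw [← hg₀f _ hmem]; simp [hf']
      have h2 : f' u - u = 0 := hinj _ (Submodule.sub_mem _ (Submodule.mem_sup_left hmem)
        (Submodule.mem_sup_right (Submodule.mem_span_singleton_self u))) (by simp [h1])
      exact hu (sub_eq_zero.mp h2 ▸ hmem)
    obtain ⟨g, hg, hgH, hgu⟩ := step _ u f' hu hfu (Rcomp _ f g₀ hg₀ hR) hfix
    refine ⟨g.trans g₀, Ptrans _ _ hg hg₀, fun x hx => ?_⟩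
    obtain ⟨h, hh, y, hy, rfl⟩ := Submodule.mem_sup.mp hx
    obtain ⟨c, rfl⟩ := Submodule.mem_span_singleton.mp hy
    simp [hgH h hh, hgu, hg₀f h hh, hf']

/-- The dichotomy used in the singular step of Witt's theorem: either `u` avoids `H ⊔ ⟨d⟩` or `d` is,
outside `H`, a multiple of `u`, and then a map fixing `H` that scales `d` correctly moves `u` to `u + d`. -/
theorem step_scale (H : Submodule F V) (u d : V) (hu : u ∉ H) (hud : u + d ∉ H)
    (hmem : u ∈ H ⊔ (F ∙ d)) :
    d ∉ H ∧ ∃ t : F, t ≠ 0 ∧ ∀ g : V ≃ₗ[F] V, (∀ h ∈ H, g h = h) → g d = t • d → g u = u + d := by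
  obtain ⟨h, hh, y, hy, hsum⟩ := Submodule.mem_sup.mp hmem
  obtain ⟨c, rfl⟩ := Submodule.mem_span_singleton.mp hy
  have hc : c ≠ 0 := by
    rintro rfl
    exact hu (by simpa [← hsum] using hh)
  have hd : d ∉ H := fun hd => hu (hsum ▸ H.add_mem hh (H.smul_mem c hd))
  refine ⟨hd, (c + 1) / c, ?_, fun g hgH hgd => ?_⟩
  · intro h0
    rcases div_eq_zero_iff.mp h0 with h1 | h1
    · apply hud
      have : u + d = h := by
        rw [← hsum, add_assoc]
        conv_lhs => arg 2; arg 2; rw [← one_smul F d]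
        rw [← add_smul, h1, zero_smul, add_zero]
      rwa [this]
    · exact hc h1
  · rw [← hsum, map_add, map_smul, hgH h hh, hgd, smul_smul, mul_div_cancel₀ _ hc, add_smul,
      one_smul, add_assoc]

/-! ### Alternating forms -/

/-- The linear equivalence given by an injective endomorphism. -/
noncomputable def equivOfInjective [FiniteDimensional F V] (T : V →ₗ[F] V)
    (h : ∀ x, T x = 0 → x = 0) : V ≃ₗ[F] V :=
  LinearEquiv.ofInjectiveEndo T (LinearMap.ker_eq_bot'.mpr h |> LinearMap.ker_eq_bot.mp)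

@[simp] theorem equivOfInjective_apply [FiniteDimensional F V] (T : V →ₗ[F] V)
    (h : ∀ x, T x = 0 → x = 0) (x : V) : equivOfInjective T h x = T x := rfl

/-- A non-degenerate bilinear form represents every functional, on the left. -/
theorem bilin_represent [FiniteDimensional F V] (B : LinearMap.BilinForm F V)
    (hB : B.Nondegenerate) (l : V →ₗ[F] F) : ∃ a, ∀ x, B a x = l x := by
  have hinj : Function.Injective (B : V →ₗ[F] Module.Dual F V) := by
    rw [← LinearMap.ker_eq_bot, LinearMap.ker_eq_bot']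
    intro x hx
    exact hB.1 x fun y => by rw [hx]; simp
  obtain ⟨a, ha⟩ := (LinearMap.injective_iff_surjective_of_finrank_eq_finrank
    (Subspace.dual_finrank_eq).symm).mp hinj l
  exact ⟨a, fun x => by rw [← ha]⟩

theorem alt_isometry_of_map [FiniteDimensional F V] (B : LinearMap.BilinForm F V)
    (hB : B.Nondegenerate) (T : V →ₗ[F] V) (hT : ∀ x y, B (T x) (T y) = B x y) :
    ∃ g : V ≃ₗ[F] V, (∀ x y, B (g x) (g y) = B x y) ∧ ∀ x, g x = T x := by
  refine ⟨equivOfInjective T fun x hx => hB.1 x fun y => ?_, fun x y => by simpa using hT x y,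
    fun x => rfl⟩
  rw [← hT, hx]; simp

theorem witt_alternating [FiniteDimensional F V] (B : LinearMap.BilinForm F V)
    (hB : B.Nondegenerate) (hA : B.IsAlt) (X : Submodule F V) (f : V →ₗ[F] V)
    (hf : ∀ x ∈ X, ∀ y ∈ X, B (f x) (f y) = B x y) (hinj : ∀ x ∈ X, f x = 0 → x = 0) :
    ∃ g : V ≃ₗ[F] V, (∀ x y, B (g x) (g y) = B x y) ∧ ∀ x ∈ X, g x = f x := by
  refine extend_by_steps (fun g => ∀ x y, B (g x) (g y) = B x y)
    (fun X f => ∀ x ∈ X, ∀ y ∈ X, B (f x) (f y) = B x y) (by simp) ?_ ?_ ?_ ?_ X f hf hinj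
  · intro g h hg hh x y; simp [hh, hg]
  · intro X X' f hle h x hx y hy; exact h x (hle hx) y (hle hy)
  · intro X f g hg h x hx y hy
    rw [← h x hx y hy, ← hg]; simp
  intro H u f hu hfu hR hfix
  set d := f u - u with hd_def
  have hfud : f u = u + d := by simp [hd_def]
  have hsk : ∀ x y, B y x = - B x y := fun x y => by rw [LinearMap.IsAlt.neg hA x y]
  have hself : ∀ x, B x x = 0 := hA
  have hdH : ∀ h ∈ H, B h d = 0 := by
    intro h hh
    have := hR h (Submodule.mem_sup_left hh) u
      (Submodule.mem_sup_right (Submodule.mem_span_singleton_self u))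
    rw [hfix h hh] at this
    simp [hd_def, this]
  by_cases hud : B u d = 0
  swap
  · -- a transvection
    obtain ⟨g, hg, hgT⟩ := alt_isometry_of_map B hB
      (shiftMap ((B u d)⁻¹ • (B.flip d)) d 0 0) (fun x y => by
        simp [hself, hsk y d]; ring)
    refine ⟨g, hg, fun h hh => by simp [hgT, hdH h hh], ?_⟩
    rw [hgT, hfud]; simp [hud]
  by_cases hmem : u ∈ H ⊔ (F ∙ d)
  · obtain ⟨hd, t, ht, hscale⟩ := step_scale H u d hu (hfud ▸ hfu) hmem
    obtain ⟨l, hl, hld⟩ := exists_dual_eq H hd (-1)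
    obtain ⟨a, ha⟩ := bilin_represent B hB l
    have had : B a d = -1 := by rw [ha, hld]
    obtain ⟨g, hg, hgT⟩ := alt_isometry_of_map B hB
      (shiftMap ((t - 1) • B.flip a) d ((1 - t⁻¹) • B.flip d) a) (fun x y => by
        have hda : B d a = 1 := by rw [hsk a d, had, neg_neg]
        simp [hself, had, hda, hsk y a, hsk y d]
        field_simp
        ring)
    refine ⟨g, hg, fun h hh => ?_, ?_⟩
    · have : B h a = 0 := by rw [hsk a h, ha, hl h hh, neg_zero]
      simp [hgT, hdH h hh, this]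
    · rw [hfud]
      refine hscale g (fun h hh => ?_) ?_
      · have : B h a = 0 := by rw [hsk a h, ha, hl h hh, neg_zero]
        simp [hgT, hdH h hh, this]
      · simp [hgT, hself, hsk a d, had, sub_smul]
  · obtain ⟨l, hl, hlu⟩ := exists_dual_eq (H ⊔ (F ∙ d)) hmem (-1)
    obtain ⟨a, ha⟩ := bilin_represent B hB l
    have had : B a d = 0 := by
      rw [ha]; exact hl d (Submodule.mem_sup_right (Submodule.mem_span_singleton_self d))
    have hau : B a u = -1 := by rw [ha, hlu]
    obtain ⟨g, hg, hgT⟩ := alt_isometry_of_map B hB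
      (shiftMap (B.flip d) a (B.flip a) d) (fun x y => by
        simp [hself, hsk a d, had, hsk y a, hsk y d]; ring)
    refine ⟨g, hg, fun h hh => ?_, ?_⟩
    · have : B h a = 0 := by rw [hsk a h, ha, hl h (Submodule.mem_sup_left hh), neg_zero]
      simp [hgT, hdH h hh, this]
    · rw [hgT, hfud]; simp [hud, hsk a u, hau]

/-! ### Quadratic forms -/

theorem quad_isometry_of_map [FiniteDimensional F V] (Q : QuadraticForm F V)
    (hQ : (QuadraticMap.polarBilin Q).Nondegenerate) (T : V →ₗ[F] V) (hT : ∀ x, Q (T x) = Q x) :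
    ∃ g : V ≃ₗ[F] V, (∀ x, Q (g x) = Q x) ∧ ∀ x, g x = T x := by
  refine ⟨equivOfInjective T fun x hx => hQ.1 x fun y => ?_, fun x => by simpa using hT x,
    fun x => rfl⟩
  have h1 := hT (x + y)
  have h2 := hT x
  have h3 := hT y
  rw [map_add, hx, zero_add, h3] at h1
  rw [hx, QuadraticMap.map_zero] at h2
  rw [QuadraticMap.polarBilin_apply_apply, QuadraticMap.polar, ← h1, ← h2]
  ring

theorem quad_map_shift (Q : QuadraticForm F V) (x a b : V) (p q : F) :
    Q (x + p • a + q • b) = Q x + p * p * Q a + q * q * Q b + p * QuadraticMap.polar Q x a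
      + q * QuadraticMap.polar Q x b + p * q * QuadraticMap.polar Q a b := by
  rw [QuadraticMap.map_add (⇑Q) (x + p • a) (q • b), QuadraticMap.map_add (⇑Q) x (p • a),
    QuadraticMap.map_smul Q p a, QuadraticMap.map_smul Q q b, QuadraticMap.polar_add_left Q,
    QuadraticMap.polar_smul_right Q, QuadraticMap.polar_smul_right Q,
    QuadraticMap.polar_smul_left Q, QuadraticMap.polar_smul_right Q]
  simp only [smul_eq_mul]
  ring

theorem witt_quadratic [FiniteDimensional F V] (Q : QuadraticForm F V)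
    (hQ : (QuadraticMap.polarBilin Q).Nondegenerate) (X : Submodule F V) (f : V →ₗ[F] V)
    (hf : ∀ x ∈ X, Q (f x) = Q x) (hinj : ∀ x ∈ X, f x = 0 → x = 0) :
    ∃ g : V ≃ₗ[F] V, (∀ x, Q (g x) = Q x) ∧ ∀ x ∈ X, g x = f x := by
  refine extend_by_steps (fun g => ∀ x, Q (g x) = Q x) (fun X f => ∀ x ∈ X, Q (f x) = Q x)
    (by simp) ?_ ?_ ?_ ?_ X f hf hinj
  · intro g h hg hh x; simp [hh, hg]
  · intro X X' f hle h x hx; exact h x (hle hx)
  · intro X f g hg h x hx
    rw [← h x hx, ← hg]; simp
  intro H u f hu hfu hR hfix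
  set B := QuadraticMap.polarBilin Q with hBdef
  have hBp : ∀ x y, B x y = QuadraticMap.polar Q x y := fun x y => rfl
  set d := f u - u with hd_def
  have hfud : f u = u + d := by simp [hd_def]
  have humem : u ∈ H ⊔ (F ∙ u) := Submodule.mem_sup_right (Submodule.mem_span_singleton_self u)
  have hQu : Q (u + d) = Q u := hfud ▸ hR u humem
  have hQd : Q d + QuadraticMap.polar Q u d = 0 := by
    rw [QuadraticMap.map_add (⇑Q)] at hQu; linear_combination hQu
  have hdH : ∀ h ∈ H, QuadraticMap.polar Q h d = 0 := by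
    intro h hh
    have h1 := hR (h + u) (Submodule.add_mem _ (Submodule.mem_sup_left hh) humem)
    have h2 := hR u humem
    rw [map_add, hfix h hh, QuadraticMap.map_add (⇑Q), QuadraticMap.map_add (⇑Q), h2] at h1
    rw [hd_def, QuadraticMap.polar_sub_right]
    linear_combination h1
  by_cases hd0 : Q d = 0
  swap
  · -- a reflection
    obtain ⟨g, hg, hgT⟩ := quad_isometry_of_map Q hQ
      (shiftMap ((-(Q d)⁻¹) • B.flip d) d 0 0) (fun x => by
        simp only [shiftMap_apply, LinearMap.smul_apply, LinearMap.flip_apply, hBp,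
          LinearMap.zero_apply, smul_eq_mul, quad_map_shift]
        field_simp
        ring)
    refine ⟨g, hg, fun h hh => by simp [hgT, hBp, hdH h hh], ?_⟩
    have : QuadraticMap.polar Q u d = - Q d := by linear_combination hQd
    rw [hgT, hfud]; simp [hBp, this, hd0]
  have hud : QuadraticMap.polar Q u d = 0 := by linear_combination hQd - hd0
  by_cases hmem : u ∈ H ⊔ (F ∙ d)
  · obtain ⟨hd, t, ht, hscale⟩ := step_scale H u d hu (hfud ▸ hfu) hmem
    obtain ⟨l, hl, hld⟩ := exists_dual_eq H hd (1 : F)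
    obtain ⟨a₀, ha₀⟩ := bilin_represent B hQ l
    obtain ⟨a, had, haH, ha0⟩ : ∃ a, QuadraticMap.polar Q d a = 1 ∧
        (∀ h ∈ H, QuadraticMap.polar Q h a = 0) ∧ Q a = 0 := by
      have h1 : QuadraticMap.polar Q d a₀ = 1 := by
        rw [QuadraticMap.polar_comm, ← hBp, ha₀, hld]
      refine ⟨a₀ + (- Q a₀) • d, ?_, fun h hh => ?_, ?_⟩
      · simp [QuadraticMap.polar_add_right, QuadraticMap.polar_smul_right, h1,
          QuadraticMap.polar_self, hd0]
      · have : QuadraticMap.polar Q h a₀ = 0 := by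
          rw [QuadraticMap.polar_comm, ← hBp, ha₀, hl h hh]
        simp [QuadraticMap.polar_add_right, QuadraticMap.polar_smul_right, this, hdH h hh]
      · rw [QuadraticMap.map_add (⇑Q), QuadraticMap.map_smul, QuadraticMap.polar_smul_right,
          QuadraticMap.polar_comm, h1]
        simp [hd0]
    obtain ⟨g, hg, hgT⟩ := quad_isometry_of_map Q hQ
      (shiftMap ((t - 1) • B.flip a) d ((t⁻¹ - 1) • B.flip d) a) (fun x => by
        simp only [shiftMap_apply, LinearMap.smul_apply, LinearMap.flip_apply, hBp,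
          smul_eq_mul, quad_map_shift, hd0, ha0, had]
        field_simp
        ring)
    have hgH : ∀ h ∈ H, g h = h := fun h hh => by simp [hgT, hBp, hdH h hh, haH h hh]
    refine ⟨g, hg, hgH, ?_⟩
    rw [hfud]
    refine hscale g hgH ?_
    simp [hgT, hBp, had, QuadraticMap.polar_self, hd0, sub_smul]
  · obtain ⟨l, hl, hlu⟩ := exists_dual_eq (H ⊔ (F ∙ d)) hmem (-1)
    obtain ⟨a, ha⟩ := bilin_represent B hQ l
    have had : QuadraticMap.polar Q a d = 0 := by
      rw [← hBp, ha]; exact hl d (Submodule.mem_sup_right (Submodule.mem_span_singleton_self d))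
    have hua : QuadraticMap.polar Q u a = -1 := by
      rw [QuadraticMap.polar_comm, ← hBp, ha, hlu]
    obtain ⟨g, hg, hgT⟩ := quad_isometry_of_map Q hQ
      (shiftMap (B.flip d) a (-(B.flip a) - Q a • B.flip d) d) (fun x => by
        simp only [shiftMap_apply, LinearMap.smul_apply, LinearMap.sub_apply, LinearMap.neg_apply,
          LinearMap.flip_apply, hBp, smul_eq_mul, quad_map_shift, hd0, had]
        ring)
    refine ⟨g, hg, fun h hh => ?_, ?_⟩
    · have : QuadraticMap.polar Q h a = 0 := by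
        rw [QuadraticMap.polar_comm, ← hBp, ha, hl h (Submodule.mem_sup_left hh)]
      simp [hgT, hBp, hdH h hh, this]
    · rw [hgT, hfud]; simp [hBp, hud, hua]

/-! ### Hermitian forms -/

section Hermitian

variable {σ : F →+* F}

/-- An element of trace one. -/
theorem exists_add_conj_eq (hσ : σ ≠ RingHom.id F) (hσ2 : ∀ a : F, σ (σ a) = a) (c : F)
    (hc : σ c = c) : ∃ t : F, t + σ t = c := by
  obtain ⟨s, hs⟩ : ∃ s : F, s + σ s ≠ 0 := by
    by_contra h
    push Not at h
    apply hσ
    ext x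
    have h1 : (1 : F) + 1 = 0 := by simpa using h 1
    have h2 := h x
    calc σ x = σ x + (1 + 1) * x := by rw [h1, zero_mul, add_zero]
      _ = (x + σ x) + x := by ring
      _ = RingHom.id F x := by rw [h2, zero_add, RingHom.id_apply]
  refine ⟨c / (s + σ s) * s, ?_⟩
  rw [map_mul, map_div₀, map_add, hσ2, hc, add_comm (σ s) s, ← mul_add, div_mul_cancel₀ c hs]

/-- A non-degenerate hermitian form represents every functional on the left. -/
theorem herm_represent [FiniteDimensional F V] (B : V →ₛₗ[σ] V →ₗ[F] F)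
    (hσ2 : ∀ a : F, σ (σ a) = a) (hS : B.IsSymm)
    (hB : B.Nondegenerate) (l : V →ₗ[F] F) : ∃ a, ∀ x, B a x = l x := by
  let b := Module.finBasis F V
  let L : V →ₗ[F] (Fin (Module.finrank F V) → F) := LinearMap.pi fun i => B (b i)
  have hinj : Function.Injective L := by
    rw [← LinearMap.ker_eq_bot, LinearMap.ker_eq_bot']
    intro a ha
    refine hB.1 a fun y => ?_
    have hzero : B a = 0 := b.ext fun i => by
      have : B (b i) a = 0 := congrFun ha i
      rw [← hS.eq, this]; simp
    simp [hzero]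
  obtain ⟨a, ha⟩ := (LinearMap.injective_iff_surjective_of_finrank_eq_finrank
    (by simp)).mp hinj fun i => σ (l (b i))
  refine ⟨a, fun x => ?_⟩
  have : B a = l := b.ext fun i => by
    have hi : B (b i) a = σ (l (b i)) := congrFun ha i
    rw [← hS.eq, hi, hσ2]
  rw [this]

theorem herm_isometry_of_map [FiniteDimensional F V] (B : V →ₛₗ[σ] V →ₗ[F] F)
    (hB : B.Nondegenerate) (T : V →ₗ[F] V) (hT : ∀ x y, B (T x) (T y) = B x y) :
    ∃ g : V ≃ₗ[F] V, (∀ x y, B (g x) (g y) = B x y) ∧ ∀ x, g x = T x := by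
  refine ⟨equivOfInjective T fun x hx => hB.1 x fun y => ?_, fun x y => by simpa using hT x y,
    fun x => rfl⟩
  rw [← hT, hx]; simp

theorem witt_hermitian [FiniteDimensional F V] (B : V →ₛₗ[σ] V →ₗ[F] F)
    (hσ : σ ≠ RingHom.id F) (hσ2 : ∀ a : F, σ (σ a) = a) (hS : B.IsSymm)
    (hB : B.Nondegenerate) (X : Submodule F V) (f : V →ₗ[F] V)
    (hf : ∀ x ∈ X, ∀ y ∈ X, B (f x) (f y) = B x y) (hinj : ∀ x ∈ X, f x = 0 → x = 0) :
    ∃ g : V ≃ₗ[F] V, (∀ x y, B (g x) (g y) = B x y) ∧ ∀ x ∈ X, g x = f x := by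
  refine extend_by_steps (fun g => ∀ x y, B (g x) (g y) = B x y)
    (fun X f => ∀ x ∈ X, ∀ y ∈ X, B (f x) (f y) = B x y) (by simp) ?_ ?_ ?_ ?_ X f hf hinj
  · intro g h hg hh x y; simp [hh, hg]
  · intro X X' f hle h x hx y hy; exact h x (hle hx) y (hle hy)
  · intro X f g hg h x hx y hy
    rw [← h x hx y hy, ← hg]; simp
  intro H u f hu hfu hR hfix
  set d := f u - u with hd_def
  have hfud : f u = u + d := by simp [hd_def]
  have hsy : ∀ x y, σ (B x y) = B y x := fun x y => hS.eq x y
  have humem : u ∈ H ⊔ (F ∙ u) := Submodule.mem_sup_right (Submodule.mem_span_singleton_self u)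
  have hHd : ∀ h ∈ H, B h d = 0 := by
    intro h hh
    have := hR h (Submodule.mem_sup_left hh) u humem
    rw [hfix h hh] at this
    simp [hd_def, this]
  have hdH : ∀ h ∈ H, B d h = 0 := fun h hh => by rw [← hsy, hHd h hh, map_zero]
  have hrel : B u d + B d u + B d d = 0 := by
    have := hR u humem u humem
    rw [hfud] at this
    simp only [map_add, LinearMap.add_apply] at this
    linear_combination this
  by_cases hdu : B d u = 0
  swap
  · -- a quasi-reflection
    have hk : (B d u)⁻¹ + σ (B d u)⁻¹ + σ (B d u)⁻¹ * (B d u)⁻¹ * B d d = 0 := by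
      rw [map_inv₀, hsy]
      have h1 : B u d ≠ 0 := fun h => hdu (by rw [← hsy, h, map_zero])
      field_simp
      linear_combination hrel
    obtain ⟨g, hg, hgT⟩ := herm_isometry_of_map B hB
      (shiftMap ((B d u)⁻¹ • B d) d 0 0) (fun x y => by
        simp [hsy]
        simp only [map_inv₀, hsy] at hk
        linear_combination (B x d * B d y) * hk)
    refine ⟨g, hg, fun h hh => by simp [hgT, hdH h hh], ?_⟩
    rw [hgT, hfud]; simp [hdu]
  have hud : B u d = 0 := by rw [← hsy, hdu, map_zero]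
  have hdd : B d d = 0 := by linear_combination hrel - hud - hdu
  by_cases hmem : u ∈ H ⊔ (F ∙ d)
  · obtain ⟨hd, t, ht, hscale⟩ := step_scale H u d hu (hfud ▸ hfu) hmem
    obtain ⟨l, hl, hld⟩ := exists_dual_eq H hd (1 : F)
    obtain ⟨a₀, ha₀⟩ := herm_represent B hσ2 hS hB l
    obtain ⟨a, had, haH, haa⟩ : ∃ a, B a d = 1 ∧ (∀ h ∈ H, B a h = 0) ∧ B a a = 0 := by
      have h1 : B a₀ d = 1 := by rw [ha₀, hld]
      have h2 : B d a₀ = 1 := by rw [← hsy, h1, map_one]
      obtain ⟨s, hs⟩ := exists_add_conj_eq hσ hσ2 (-(B a₀ a₀)) (by rw [map_neg, hsy])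
      refine ⟨a₀ + s • d, ?_, fun h hh => ?_, ?_⟩
      · simp [h1, hdd]
      · simp [ha₀, hl h hh, hdH h hh]
      · simp [h1, h2, hdd]; linear_combination hs
    have hda : B d a = 1 := by rw [← hsy, had, map_one]
    obtain ⟨g, hg, hgT⟩ := herm_isometry_of_map B hB
      (shiftMap ((t - 1) • B a) d (((σ t)⁻¹ - 1) • B d) a) (fun x y => by
        have hst : σ t ≠ 0 := (map_ne_zero σ).mpr ht
        simp [hsy, hdd, haa, had, hda, hσ2]
        field_simp
        ring)
    have hgH : ∀ h ∈ H, g h = h := fun h hh => by simp [hgT, hdH h hh, haH h hh]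
    refine ⟨g, hg, hgH, ?_⟩
    rw [hfud]
    exact hscale g hgH (by simp [hgT, had, hdd, sub_smul])
  · obtain ⟨l, hl, hlu⟩ := exists_dual_eq (H ⊔ (F ∙ d)) hmem (-1)
    obtain ⟨a, ha⟩ := herm_represent B hσ2 hS hB l
    have had : B a d = 0 := by
      rw [ha]; exact hl d (Submodule.mem_sup_right (Submodule.mem_span_singleton_self d))
    have hda : B d a = 0 := by rw [← hsy, had, map_zero]
    obtain ⟨m, hm⟩ := exists_add_conj_eq hσ hσ2 (-(B a a)) (by rw [map_neg, hsy])
    obtain ⟨g, hg, hgT⟩ := herm_isometry_of_map B hB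
      (shiftMap (B d) a (-(B a) + m • B d) d) (fun x y => by
        simp [hsy, hdd, had, hda]
        linear_combination (B x d * B d y) * hm)
    refine ⟨g, hg, fun h hh => ?_, ?_⟩
    · simp [hgT, hdH h hh, ha, hl h (Submodule.mem_sup_left hh)]
    · rw [hgT, hfud]; simp [hdu, ha, hlu]

end Hermitian

/-! ### Statements for linear equivalences between subspaces -/

/-- A linear equivalence between subspaces, extended to an endomorphism. -/
theorem exists_extension (X Y : Submodule F V) (φ : X ≃ₗ[F] Y) :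
    ∃ f : V →ₗ[F] V, (∀ x : X, f x = φ x) ∧ ∀ x ∈ X, f x = 0 → x = 0 := by
  obtain ⟨f, hf⟩ := LinearMap.exists_extend (Y.subtype ∘ₗ φ.toLinearMap)
  have hf' : ∀ x : X, f x = φ x := fun x => LinearMap.congr_fun hf x
  refine ⟨f, hf', fun x hx h => ?_⟩
  have h1 : φ ⟨x, hx⟩ = 0 := Subtype.ext ((hf' ⟨x, hx⟩).symm.trans h)
  simpa using congrArg Subtype.val ((LinearEquiv.map_eq_zero_iff φ).mp h1)

end CfsgLib.Forms
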