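import Mathlib
import Cfsg.Agent.Lib.Forms.Witt
import Cfsg.Agent.Lib.Conj.NormUnits

/-!
Bases for forms: symplectic bases, orthonormal bases of hermitian forms over finite fields, and the
orthogonal bases `1, …, 1, (1 or α)` of symmetric forms over finite fields of odd order.
-/

set_option autoImplicit false

namespace CfsgLib.Forms

open Module

variable {F V : Type*} [Field F] [AddCommGroup V] [Module F V]

/-- A symplectic basis of a subspace. -/
theorem exists_symplectic_family [FiniteDimensional F V] (B : LinearMap.BilinForm F V) (hA : B.IsAlt) :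
    ∀ (d : ℕ) (W : Submodule F V), finrank F W = d →
      ∃ (m k : ℕ) (b : (Fin m ⊕ Fin m) ⊕ Fin k → V), m + m + k = d ∧
        Submodule.span F (Set.range b) = W ∧
        (∀ i j : Fin m, B (b (.inl (.inl i))) (b (.inl (.inr j))) = if i = j then 1 else 0) ∧
        (∀ i j : Fin m, B (b (.inl (.inl i))) (b (.inl (.inl j))) = 0) ∧
        (∀ i j : Fin m, B (b (.inl (.inr i))) (b (.inl (.inr j))) = 0) ∧
        (∀ (j : Fin k), ∀ v ∈ W, B (b (.inr j)) v = 0) := by
  intro d
  induction d using Nat.strong_induction_on with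
  | h d ih =>
    intro W hW
    by_cases h0 : ∀ x ∈ W, ∀ y ∈ W, B x y = 0
    · let c := Module.finBasisOfFinrankEq F W hW
      refine ⟨0, d, Sum.elim (fun s => Sum.elim Fin.elim0 Fin.elim0 s) (fun j => (c j : V)), by simp,
        ?_, fun i => i.elim0, fun i => i.elim0, fun i => i.elim0,
        fun j v hv => h0 _ (c j).2 v hv⟩
      apply le_antisymm
      · rw [Submodule.span_le]
        rintro _ ⟨(i | j), rfl⟩
        · rcases i with i | i <;> exact i.elim0
        · exact (c j).2
      · intro x hx
        have hmem : (⟨x, hx⟩ : W) ∈ Submodule.span F (Set.range c) := by rw [c.span_eq]; trivial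
        have := Submodule.mem_map_of_mem (f := W.subtype) hmem
        rw [Submodule.map_span, ← Set.range_comp] at this
        refine Submodule.span_mono ?_ this
        rintro _ ⟨j, rfl⟩
        exact ⟨.inr j, rfl⟩
    push Not at h0
    obtain ⟨e, he, f₀, hf₀, hef⟩ := h0
    set f := (B e f₀)⁻¹ • f₀ with hf_def
    have hf : f ∈ W := W.smul_mem _ hf₀
    have hef1 : B e f = 1 := by simp [hf_def, hef]
    have hfe : B f e = -1 := by rw [← LinearMap.IsAlt.neg hA e f, hef1]
    set W' := W ⊓ LinearMap.ker (B e) ⊓ LinearMap.ker (B f) with hW'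
    have hle : W' ≤ W := inf_le_left.trans inf_le_left
    have hdec : ∀ x ∈ W, x - ((- B f x) • e + (B e x) • f) ∈ W' := fun x hx => by
      refine ⟨⟨W.sub_mem hx (W.add_mem (W.smul_mem _ he) (W.smul_mem _ hf)), ?_⟩, ?_⟩ <;>
        simp [LinearMap.mem_ker, hA e, hA f, hef1, hfe]
    have hdisj : ∀ s t : F, s • e + t • f ∈ W' → s = 0 ∧ t = 0 := fun s t h => by
      have h1 : B e (s • e + t • f) = 0 := h.1.2
      have h2 : B f (s • e + t • f) = 0 := h.2
      simp [hA e, hA f, hef1, hfe] at h1 h2
      exact ⟨h2, h1⟩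
    set P := Submodule.span F ({e, f} : Set V) with hP
    have hPW : W' ⊔ P = W := by
      refine le_antisymm (sup_le hle ?_) fun x hx => ?_
      · rw [hP, Submodule.span_le]
        rintro z (rfl | rfl) <;> assumption
      · rw [← sub_add_cancel x ((- B f x) • e + (B e x) • f)]
        refine Submodule.add_mem _ (Submodule.mem_sup_left (hdec x hx)) (Submodule.mem_sup_right ?_)
        exact Submodule.mem_span_pair.mpr ⟨_, _, rfl⟩
    have hinf : W' ⊓ P = ⊥ := by
      rw [eq_bot_iff]
      rintro x ⟨hx, hxP⟩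
      obtain ⟨s, t, rfl⟩ := Submodule.mem_span_pair.mp hxP
      obtain ⟨rfl, rfl⟩ := hdisj s t hx
      simp
    have hPdim : finrank F P = 2 := by
      have hind : LinearIndependent F ![e, f] := by
        rw [LinearIndependent.pair_iff]
        intro s t h
        exact hdisj s t (by rw [h]; exact W'.zero_mem)
      have h1 : Set.range ![e, f] = {e, f} := by simp [Matrix.range_cons, Set.pair_comm]
      rw [hP, ← h1, finrank_span_eq_card hind]
      simp
    have hdim := Submodule.finrank_sup_add_finrank_inf_eq W' P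
    rw [hPW, hinf, finrank_bot, hPdim, hW] at hdim
    obtain ⟨m, k, b, hmk, hspan, h1, h2, h3, h4⟩ := ih (finrank F W') (by omega) W' rfl
    have hbW : ∀ i, b i ∈ W' := fun i => hspan ▸ Submodule.subset_span (Set.mem_range_self i)
    have he' : ∀ i, B e (b i) = 0 := fun i => (hbW i).1.2
    have hf' : ∀ i, B f (b i) = 0 := fun i => (hbW i).2
    have he'' : ∀ i, B (b i) e = 0 := fun i => by rw [← LinearMap.IsAlt.neg hA e, he', neg_zero]
    have hf'' : ∀ i, B (b i) f = 0 := fun i => by rw [← LinearMap.IsAlt.neg hA f, hf', neg_zero]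
    let b' : (Fin (m + 1) ⊕ Fin (m + 1)) ⊕ Fin k → V := Sum.elim
      (Sum.elim (Fin.cons e fun i => b (.inl (.inl i))) (Fin.cons f fun i => b (.inl (.inr i))))
      (fun j => b (.inr j))
    refine ⟨m + 1, k, b', by omega, ?_, ?_, ?_, ?_, ?_⟩
    · apply le_antisymm
      · rw [Submodule.span_le]
        rintro _ ⟨((i | i) | j), rfl⟩ <;> [cases i using Fin.cases; cases i using Fin.cases; skip] <;>
          first
          | exact he
          | exact hf
          | exact hle (hbW _)
      · rw [← hPW, sup_le_iff, ← hspan, hP, Submodule.span_le, Submodule.span_le]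
        constructor
        · rintro _ ⟨((i | i) | j), rfl⟩
          · exact Submodule.subset_span ⟨.inl (.inl i.succ), by simp [b']⟩
          · exact Submodule.subset_span ⟨.inl (.inr i.succ), by simp [b']⟩
          · exact Submodule.subset_span ⟨.inr j, by simp [b']⟩
        · rintro z (rfl | rfl)
          · exact Submodule.subset_span ⟨.inl (.inl 0), by simp [b']⟩
          · exact Submodule.subset_span ⟨.inl (.inr 0), by simp [b']⟩
    · intro i j
      cases i using Fin.cases <;> cases j using Fin.cases <;>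
        simp [b', hef1, he', hf'', h1, Fin.succ_ne_zero, (Fin.succ_ne_zero _).symm]
    · intro i j
      cases i using Fin.cases <;> cases j using Fin.cases <;> simp [b', hA e, he', he'', h2]
    · intro i j
      cases i using Fin.cases <;> cases j using Fin.cases <;> simp [b', hA f, hf', hf'', h3]
    · intro j v hv
      show B (b (.inr j)) v = 0
      rw [← sub_add_cancel v ((- B f v) • e + (B e v) • f), map_add, h4 j _ (hdec v hv)]
      simp [he'', hf'']

section Sesq

variable {σ : F →+* F}

/-- Splitting off a non-isotropic vector. -/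
theorem exists_split [FiniteDimensional F V] (B : V →ₛₗ[σ] V →ₗ[F] F)
    (hsy : ∀ x y, σ (B x y) = B y x) (W : Submodule F V)
    (hW : ∀ x ∈ W, (∀ y ∈ W, B x y = 0) → x = 0) {v : V} (hv : v ∈ W) (hvv : B v v ≠ 0) :
    ∃ W' : Submodule F V, W' ≤ W ∧ (∀ x ∈ W', (∀ y ∈ W', B x y = 0) → x = 0) ∧
      (∀ x ∈ W', B v x = 0 ∧ B x v = 0) ∧ W ≤ W' ⊔ (F ∙ v) ∧ finrank F W' + 1 = finrank F W := by
  set W' := W ⊓ LinearMap.ker (B v) with hW'
  have hperp : ∀ x ∈ W', B v x = 0 ∧ B x v = 0 := fun x hx => by
    have h1 : B v x = 0 := hx.2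
    exact ⟨h1, by rw [← hsy, h1, map_zero]⟩
  have hdec : ∀ x ∈ W, x - (B v x / B v v) • v ∈ W' := fun x hx => by
    refine ⟨W.sub_mem hx (W.smul_mem _ hv), ?_⟩
    simp [LinearMap.mem_ker, hvv]
  have hsup : W' ⊔ (F ∙ v) = W := by
    refine le_antisymm (sup_le inf_le_left ((Submodule.span_singleton_le_iff_mem _ _).mpr hv))
      fun x hx => ?_
    rw [← sub_add_cancel x ((B v x / B v v) • v)]
    exact Submodule.add_mem _ (Submodule.mem_sup_left (hdec x hx))
      (Submodule.mem_sup_right (Submodule.smul_mem _ _ (Submodule.mem_span_singleton_self v)))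
  refine ⟨W', inf_le_left, fun x hx h => hW x hx.1 fun y hy => ?_, hperp, hsup.ge, ?_⟩
  · rw [← sub_add_cancel y ((B v y / B v v) • v), map_add, h _ (hdec y hy), map_smul,
      (hperp x hx).2, smul_zero, add_zero]
  · have hinf : W' ⊓ (F ∙ v) = ⊥ := by
      rw [eq_bot_iff]
      rintro x ⟨hx, hxv⟩
      obtain ⟨c, rfl⟩ := Submodule.mem_span_singleton.mp hxv
      have := (hperp _ hx).1
      simp [hvv] at this
      simp [this]
    have hdim := Submodule.finrank_sup_add_finrank_inf_eq W' (F ∙ v)
    rw [hsup, hinf, finrank_bot, finrank_span_singleton (fun h => hvv (by simp [h]))] at hdim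
    omega

theorem exists_orthonormal_family [Finite F] [FiniteDimensional F V] (B : V →ₛₗ[σ] V →ₗ[F] F)
    (hσ : σ ≠ RingHom.id F) (hσ2 : ∀ a : F, σ (σ a) = a) (hS : B.IsSymm) :
    ∀ (d : ℕ) (W : Submodule F V), finrank F W = d →
      (∀ x ∈ W, (∀ y ∈ W, B x y = 0) → x = 0) →
      ∃ b : Fin d → V, Submodule.span F (Set.range b) = W ∧
        ∀ i j, B (b i) (b j) = if i = j then 1 else 0 := by
  intro d
  induction d with
  | zero =>
    intro W hW _
    refine ⟨Fin.elim0, ?_, fun i => i.elim0⟩
    rw [Submodule.finrank_eq_zero.mp hW]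
    simp
  | succ d ih =>
    intro W hW hnd
    have hsy : ∀ x y, σ (B x y) = B y x := fun x y => hS.eq x y
    obtain ⟨v₀, hv₀, hvv⟩ : ∃ v ∈ W, B v v ≠ 0 := by
      by_contra hall
      push Not at hall
      have hne : W ≠ ⊥ := fun h => by rw [h, finrank_bot] at hW; omega
      obtain ⟨x, hx, hx0⟩ := Submodule.exists_mem_ne_zero_of_ne_bot hne
      refine hx0 (hnd x hx fun y hy => ?_)
      by_contra hc
      apply hσ
      ext a
      have hanti : ∀ x y : V, x ∈ W → y ∈ W → σ (B x y) = - B x y := fun x y hx hy => by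
        have h := hall (x + y) (W.add_mem hx hy)
        simp only [map_add, LinearMap.add_apply, hall x hx, hall y hy, zero_add, add_zero] at h
        rw [hsy]; linear_combination h
      have h1 := hanti x (a • y) hx (W.smul_mem a hy)
      rw [map_smul, smul_eq_mul, map_mul, hanti x y hx hy] at h1
      have h2 : (σ a - a) * B x y = 0 := by linear_combination -h1
      simpa [sub_eq_zero] using (mul_eq_zero.mp h2).resolve_right hc
    obtain ⟨w, hw⟩ : ∃ w, σ w - w ≠ 0 := by
      by_contra h
      push Not at h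
      exact hσ (RingHom.ext fun a => sub_eq_zero.mp (h a))
    obtain ⟨t, -, ht⟩ := CfsgLib.Conj.exists_norm_eq σ hσ2 (w := w) (IsUnit.mk0 _ hw) (B v₀ v₀)⁻¹
      (IsUnit.mk0 _ (inv_ne_zero hvv)) (by rw [map_inv₀, hsy])
    set v := t • v₀ with hv_def
    have hv : v ∈ W := W.smul_mem _ hv₀
    have hv1 : B v v = 1 := by
      rw [hv_def]
      simp only [map_smulₛₗ, LinearMap.smul_apply, RingHom.id_apply, smul_eq_mul]
      rw [← mul_inv_cancel₀ hvv, ← ht]
      ring
    obtain ⟨W', hle, hnd', hperp, hsup, hdim⟩ :=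
      exists_split B hsy W hnd hv (by rw [hv1]; exact one_ne_zero)
    obtain ⟨b, hspan, hb⟩ := ih W' (by omega) hnd'
    have hbW : ∀ i, b i ∈ W' := fun i => hspan ▸ Submodule.subset_span (Set.mem_range_self i)
    refine ⟨Fin.cons v b, ?_, fun i j => ?_⟩
    · rw [Fin.range_cons, Submodule.span_insert, hspan, sup_comm]
      exact le_antisymm (sup_le hle ((Submodule.span_singleton_le_iff_mem _ _).mpr hv)) hsup
    · cases i using Fin.cases <;> cases j using Fin.cases <;>
        simp [hv1, (hperp _ (hbW _)).1, (hperp _ (hbW _)).2, hb, Fin.succ_ne_zero,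
          (Fin.succ_ne_zero _).symm]

end Sesq

theorem exists_orthogonal_family [Fintype F] [FiniteDimensional F V] (h2 : (2 : F) ≠ 0)
    (B : LinearMap.BilinForm F V) (hS : B.IsSymm) (α : F) (hα : ¬ IsSquare α) :
    ∀ (d : ℕ) (W : Submodule F V), finrank F W = d + 1 →
      (∀ x ∈ W, (∀ y ∈ W, B x y = 0) → x = 0) →
      ∃ b : Fin (d + 1) → V, Submodule.span F (Set.range b) = W ∧
        (∀ i j, i ≠ j → B (b i) (b j) = 0) ∧ (∀ i, i ≠ Fin.last d → B (b i) (b i) = 1) ∧
        (B (b (Fin.last d)) (b (Fin.last d)) = 1 ∨ B (b (Fin.last d)) (b (Fin.last d)) = α) := by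
  have hsy : ∀ x y, B x y = B y x := fun x y => hS.eq x y
  have hsy' : ∀ x y, RingHom.id F (B x y) = B y x := fun x y => hsy x y
  have haniso : ∀ W : Submodule F V, W ≠ ⊥ → (∀ x ∈ W, (∀ y ∈ W, B x y = 0) → x = 0) →
      ∃ v ∈ W, B v v ≠ 0 := by
    intro W hne hnd
    by_contra hall
    push Not at hall
    obtain ⟨x, hx, hx0⟩ := Submodule.exists_mem_ne_zero_of_ne_bot hne
    refine hx0 (hnd x hx fun y hy => ?_)
    have h := hall (x + y) (W.add_mem hx hy)
    simp only [map_add, LinearMap.add_apply, hall x hx, hall y hy, zero_add, add_zero, hsy y x] at h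
    exact (mul_eq_zero.mp (by linear_combination h : (2 : F) * B x y = 0)).resolve_left h2
  have hch : ringChar F ≠ 2 := fun h => h2 (by
    haveI : CharP F 2 := ringChar.of_eq h
    exact CharTwo.two_eq_zero)
  intro d
  induction d with
  | zero =>
    intro W hW hnd
    obtain ⟨v, hv, hvv⟩ := haniso W (fun h => by rw [h, finrank_bot] at hW; omega) hnd
    obtain ⟨c, hc0, hc⟩ : ∃ c : F, c ≠ 0 ∧ (c * c * B v v = 1 ∨ c * c * B v v = α) := by
      classical
      by_cases h : IsSquare (B v v)
      · obtain ⟨s, hs⟩ := h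
        have hs0 : s ≠ 0 := by rintro rfl; exact hvv (by simpa using hs)
        exact ⟨s⁻¹, inv_ne_zero hs0, Or.inl (by rw [hs]; field_simp)⟩
      · have hα0 : α ≠ 0 := fun h => hα (h ▸ IsSquare.zero)
        have h' : IsSquare (α * (B v v)) := by
          rw [← quadraticChar_one_iff_isSquare (mul_ne_zero hα0 hvv), map_mul,
            quadraticChar_neg_one_iff_not_isSquare.mpr hα,
            quadraticChar_neg_one_iff_not_isSquare.mpr h]
          norm_num
        obtain ⟨s, hs⟩ := h'
        have hs0 : s ≠ 0 := by rintro rfl; exact mul_ne_zero hα0 hvv (by simpa using hs)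
        refine ⟨s / B v v, div_ne_zero hs0 hvv, Or.inr ?_⟩
        field_simp
        linear_combination -hs
    refine ⟨fun _ => c • v, ?_, fun i j h => absurd (Fin.ext (by omega)) h,
      fun i h => absurd (Fin.ext (by simp)) h, ?_⟩
    · refine Submodule.eq_of_le_of_finrank_le ?_ ?_
      · rw [Submodule.span_le]
        rintro _ ⟨i, rfl⟩
        exact W.smul_mem c hv
      · rw [hW, Set.range_const,
          finrank_span_singleton (smul_ne_zero hc0 fun h => hvv (by simp [h]))]
    · simpa [mul_assoc, mul_left_comm] using hc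
  | succ d ih =>
    intro W hW hnd
    obtain ⟨v, hv, hvv⟩ := haniso W (fun h => by rw [h, finrank_bot] at hW; omega) hnd
    obtain ⟨W₁, hle₁, hnd₁, hperp₁, -, hdim₁⟩ := exists_split B hsy' W hnd hv hvv
    obtain ⟨w, hw, hww⟩ := haniso W₁ (fun h => by rw [h, finrank_bot] at hdim₁; omega) hnd₁
    obtain ⟨s, t, hst⟩ : ∃ s t : F, s * s * B v v + t * t * B w w = 1 := by
      have hpoly : ∀ (a c : F), a ≠ 0 →
          (Polynomial.C a * Polynomial.X ^ 2 + Polynomial.C (0 : F) * Polynomial.X
            + Polynomial.C (-c)).degree = 2 := fun a c ha => Polynomial.degree_quadratic ha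
      obtain ⟨s, t, hst⟩ := FiniteField.exists_root_sum_quadratic (hpoly (B v v) 1 hvv)
        (hpoly (B w w) 0 hww) (by
          have := Fintype.one_lt_card (α := F)
          have := FiniteField.odd_card_of_char_ne_two hch
          omega)
      simp at hst
      exact ⟨s, t, by linear_combination hst⟩
    set u := s • v + t • w with hu_def
    have hu : u ∈ W := W.add_mem (W.smul_mem _ hv) (W.smul_mem _ (hle₁ hw))
    have hu1 : B u u = 1 := by
      simp [hu_def, (hperp₁ w hw).1, (hperp₁ w hw).2]
      linear_combination hst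
    obtain ⟨W', hle, hnd', hperp, hsup, hdim⟩ :=
      exists_split B hsy' W hnd hu (by rw [hu1]; exact one_ne_zero)
    obtain ⟨b, hspan, hb, hb1, hlast⟩ := ih W' (by omega) hnd'
    have hbW : ∀ i, b i ∈ W' := fun i => hspan ▸ Submodule.subset_span (Set.mem_range_self i)
    refine ⟨Fin.cons u b, ?_, fun i j hij => ?_, fun i hi => ?_, ?_⟩
    · rw [Fin.range_cons, Submodule.span_insert, hspan, sup_comm]
      exact le_antisymm (sup_le hle ((Submodule.span_singleton_le_iff_mem _ _).mpr hu)) hsup
    · cases i using Fin.cases <;> cases j using Fin.cases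
      · exact absurd rfl hij
      · simpa using (hperp _ (hbW _)).1
      · simpa using (hperp _ (hbW _)).2
      · simpa using hb _ _ (fun h => hij (by rw [h]))
    · cases i using Fin.cases with
      | zero => simpa using hu1
      | succ i => simpa using hb1 i (fun h => hi (by rw [h, Fin.succ_last]))
    · rw [← Fin.succ_last]
      simpa using hlast

end CfsgLib.Forms
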